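import Groth.Agent.Lib.Kunneth1.Sections
import Groth.Agent.Lib.CBC10.Cech
import Groth.Agent.Lib.CBC10.FlatOver
import Groth.Agent.Lib.CurveCoh17.TensorExact

/-!
# Exactness of `G ↦ p^* F ⊗ q^* G` and acyclicity on strips

For `F` with flat sections on affines the functor is exact on quasi-coherent modules, and it takes acyclic modules on
the second factor to modules acyclic on the strips `p⁻¹ W`.
-/

set_option autoImplicit false
set_option linter.style.haveILetI false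
set_option linter.unusedSectionVars false
set_option maxHeartbeats 1000000

universe u

open CategoryTheory CategoryTheory.Limits AlgebraicGeometry TopologicalSpace Opposite TensorProduct

noncomputable section

namespace Groth.Agent.Kunneth1

open Groth.Agent.CBC10 Groth.Agent.CohFound

section Criterion

variable {Z : Scheme.{u}}

open Groth.Agent.CurveCoh17 in
/-- Exactness from a covering family of affine opens. -/
theorem shortExact_of_affine_cover (S : ShortComplex Z.Modules) (h₁ : Coh.IsQCoh S.X₁) (h₂ : Coh.IsQCoh S.X₂)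
    (h₃ : Coh.IsQCoh S.X₃)
    (hR : ∀ x : Z, ∃ R : Z.Opens, IsAffineOpen R ∧ x ∈ R ∧ Function.Injective (S.f.app R) ∧
      (∀ b, S.g.app R b = 0 → ∃ a, S.f.app R a = b) ∧ Function.Surjective (S.g.app R)) : S.ShortExact := by
  haveI := h₁
  haveI := h₂
  haveI := h₃
  refine { exact := (M1.exact_iff_stalk_eq_zero S).2 fun x b hb => ?_
           mono_f := (M1.mono_iff_stalk _).2 fun x => (injective_iff_map_eq_zero _).2 fun a ha => ?_
           epi_g := (M1.epi_iff_stalk _).2 fun x c => ?_ }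
  · change S.X₂.presheaf.stalk x at b
    obtain ⟨R, hRa, hx, -, hex, -⟩ := hR x
    obtain ⟨r, m, hr, hm⟩ := M1.exists_germ_smul_eq S.X₂ hRa hx b
    have h0 : S.X₃.presheaf.germ R x hx (S.g.app R m) = 0 := by
      refine (M1.germ_naturality S.g R x hx m).symm.trans ?_
      rw [← hm]
      refine (map_smul (stalkLin S.g x) (Z.presheaf.germ R x hx r) b).trans ?_
      rw [show stalkLin S.g x b = 0 from hb, smul_zero]
    obtain ⟨v, hv, hv0⟩ := M1.exists_smul_eq_zero_of_germ_eq_zero S.X₃ hRa hx _ h0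
    obtain ⟨l, hl⟩ := hex (v • m) ((Scheme.Modules.Hom.app_smul S.g v m).trans hv0)
    obtain ⟨u, hu⟩ := hv.mul hr
    refine ⟨((↑u⁻¹ : Z.presheaf.stalk x) • S.X₁.presheaf.germ R x hx l : S.X₁.presheaf.stalk x), ?_⟩
    show stalkLin S.f x ((↑u⁻¹ : Z.presheaf.stalk x) • S.X₁.presheaf.germ R x hx l) = b
    rw [map_smul, show stalkLin S.f x (S.X₁.presheaf.germ R x hx l) = S.X₂.presheaf.germ R x hx (v • m) from
        (M1.germ_naturality S.f R x hx l).trans (congrArg _ hl), M1.germ_smul, ← hm, ← mul_smul (Z.presheaf.germ R x hx v),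
      ← hu, ← mul_smul, Units.inv_mul, one_smul]
  · change S.X₁.presheaf.stalk x at a
    obtain ⟨R, hRa, hx, hinj, -, -⟩ := hR x
    obtain ⟨r, m, hr, hm⟩ := M1.exists_germ_smul_eq S.X₁ hRa hx a
    have h0 : S.X₂.presheaf.germ R x hx (S.f.app R m) = 0 := by
      refine (M1.germ_naturality S.f R x hx m).symm.trans ?_
      show stalkLin S.f x (S.X₁.presheaf.germ R x hx m) = 0
      rw [← hm, map_smul, show stalkLin S.f x a = 0 from ha, smul_zero]
    obtain ⟨v, hv, hv0⟩ := M1.exists_smul_eq_zero_of_germ_eq_zero S.X₂ hRa hx _ h0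
    have hvm : v • m = 0 := hinj (((Scheme.Modules.Hom.app_smul S.f v m).trans hv0).trans (map_zero _).symm)
    obtain ⟨u, hu⟩ := hv.mul hr
    have h1 : (u : Z.presheaf.stalk x) • a = 0 := by
      rw [hu, mul_smul, hm, ← M1.germ_smul, hvm, map_zero]
    rw [← one_smul (Z.presheaf.stalk x) a, ← Units.inv_mul u, mul_smul, h1, smul_zero]
    rfl
  · change S.X₃.presheaf.stalk x at c
    obtain ⟨R, hRa, hx, -, -, hs⟩ := hR x
    obtain ⟨r, m, hr, hm⟩ := M1.exists_germ_smul_eq S.X₃ hRa hx c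
    obtain ⟨n, rfl⟩ := hs m
    obtain ⟨u, hu⟩ := hr
    refine ⟨(↑u⁻¹ : Z.presheaf.stalk x) • S.X₂.presheaf.germ R x hx n, ?_⟩
    show stalkLin S.g x _ = c
    rw [map_smul, show stalkLin S.g x (S.X₂.presheaf.germ R x hx n) = S.X₃.presheaf.germ R x hx (S.g.app R n) from
        M1.germ_naturality S.g R x hx n, ← hm, ← hu, ← mul_smul, Units.inv_mul, one_smul]

end Criterion

variable {A : Type u} [CommRing A] {X Y Z : Scheme.{u}} [X.Over (Spec (CommRingCat.of A))]
  [Y.Over (Spec (CommRingCat.of A))] [Z.Over (Spec (CommRingCat.of A))] {p : Z ⟶ X} {q : Z ⟶ Y}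

attribute [local instance] secA

variable (p q) in
/-- The image of a short complex. -/
def bxSC (F : X.Modules) (S : ShortComplex Y.Modules) : ShortComplex Z.Modules :=
  ShortComplex.mk (bxHom p q F S.f) (bxHom p q F S.g) (by
    rw [bxHom, bxHom, ← M2.tensorMap_comp, ← Functor.map_comp, S.zero, Functor.map_zero, Category.id_comp]
    refine M2.tensorMod_hom_ext fun U s t => ?_
    rw [M2.tensorMap_tsec]
    exact (congrArg (M2.tsec _ _ _) (show (0 : (Scheme.Modules.pullback q).obj S.X₁ ⟶ _).app U t = 0 from rfl)).trans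
      ((secTensor_tmul _ _ _ _).symm.trans (by rw [TensorProduct.tmul_zero, map_zero]; rfl)))

variable (hZ : IsProd A p q) {F : X.Modules}

include hZ in
/-- Exactness in the second variable. -/
theorem shortExact_bxSC (hF : Coh.IsQCoh F) (hflat : ∀ W : X.Opens, IsAffineOpen W → Module.Flat A Γ(F, W))
    {S : ShortComplex Y.Modules} (hS : S.ShortExact) (h₁ : Coh.IsQCoh S.X₁) (h₂ : Coh.IsQCoh S.X₂)
    (h₃ : Coh.IsQCoh S.X₃) : (bxSC p q F S).ShortExact := by
  refine shortExact_of_affine_cover _ (isQCoh_Bx hF h₁) (isQCoh_Bx hF h₂) (isQCoh_Bx hF h₃) fun z => ?_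
  obtain ⟨W, hW, hzW, -⟩ := exists_isAffineOpen_mem_and_subset (U := (⊤ : X.Opens)) (x := p z) trivial
  obtain ⟨V, hV, hzV, -⟩ := exists_isAffineOpen_mem_and_subset (U := (⊤ : Y.Opens)) (x := q z) trivial
  refine ⟨p ⁻¹ᵁ W ⊓ q ⁻¹ᵁ V, isAffineOpen_rect hZ hW hV rfl, ⟨hzW, hzV⟩, ?_⟩
  haveI := hflat W hW
  haveI := hS.mono_f
  let b := fun G => bx hZ F G (W := W) (W' := V) (R := p ⁻¹ᵁ W ⊓ q ⁻¹ᵁ V) inf_le_left inf_le_right
  have hb₁ : Function.Bijective (b S.X₁) := bijective_bx_affine hZ hF h₁ hW hV _ _ rfl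
  have hb₂ : Function.Bijective (b S.X₂) := bijective_bx_affine hZ hF h₂ hW hV _ _ rfl
  have hb₃ : Function.Bijective (b S.X₃) := bijective_bx_affine hZ hF h₃ hW hV _ _ rfl
  have hexV : Function.Exact (appL A S.f V) (appL A S.g V) := fun s => by
    refine ⟨fun hs => M1.sections_exact hS.exact V s hs, ?_⟩
    rintro ⟨t, rfl⟩
    show (S.f ≫ S.g).app V t = 0
    rw [S.zero]
    rfl
  have hsV : Function.Surjective (appL A S.g V) := by
    haveI := hS.epi_g
    exact M1.app_surjective_affine_of_isQCoh h₂ h₃ S.g hV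
  refine ⟨?_, ?_, ?_⟩
  · intro x y hxy
    obtain ⟨x, rfl⟩ := hb₁.2 x
    obtain ⟨y, rfl⟩ := hb₁.2 y
    refine congrArg (b S.X₁) (Module.Flat.lTensor_preserves_injective_linearMap (M := Γ(F, W)) (appL A S.f V)
      (M1.app_injective S.f V) (hb₂.1 ?_))
    exact ((bx_map hZ F S.X₁ S.f _ _ x).symm.trans hxy).trans (bx_map hZ F S.X₁ S.f _ _ y)
  · intro x hx
    obtain ⟨x, rfl⟩ := hb₂.2 x
    obtain ⟨a, rfl⟩ := ((lTensor_exact Γ(F, W) hexV hsV) x).1
      (hb₃.1 (((bx_map hZ F S.X₂ S.g _ _ x).symm.trans hx).trans (map_zero _).symm))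
    exact ⟨b S.X₁ a, bx_map hZ F S.X₁ S.f _ _ a⟩
  · intro y
    obtain ⟨y, rfl⟩ := hb₃.2 y
    obtain ⟨x, rfl⟩ := LinearMap.lTensor_surjective Γ(F, W) hsV y
    exact ⟨b S.X₂ x, bx_map hZ F S.X₂ S.g _ _ x⟩

variable {ι : Type u} [Finite ι] {V : ι → Y.Opens} (hcov : (⊤ : Y.Opens) ≤ iSup V)
  (hV : ∀ (n : ℕ) (a : Fin (n + 1) → ι), IsAffineOpen (tupOpen (X := sp Y) V a))

include hcov hV in
/-- The Čech complex of an acyclic module is exact in positive degrees. -/
theorem exact_dL_of_acyclic {C : Y.Modules} (hC : Coh.IsQCoh C) (n : ℕ)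
    (h0 : Subsingleton (Coh.HH Y C (n + 1))) : Function.Exact (dL A V C n) (dL A V C (n + 1)) := by
  haveI : Subsingleton ((K A V C).homology ((n + 1 : ℕ) : ℤ)) :=
    (hhEquiv hcov (acyc_of_isQCoh hC hV) (n + 1)).toEquiv.subsingleton
  intro x
  constructor
  · intro hx
    obtain ⟨y, hy⟩ := (clsM_eq_zero_iff (K A V C) rfl (next_cast (n + 1))
      ⟨x, (K_d_nat A V C (n + 1) x).trans hx⟩).1 (Subsingleton.elim _ _)
    have key : ∀ a a' : ℤ, a = a' → (∃ y, (K A V C).d a ((n + 1 : ℕ) : ℤ) y = (x : (K A V C).X ((n + 1 : ℕ) : ℤ))) →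
        ∃ y, (K A V C).d a' ((n + 1 : ℕ) : ℤ) y = (x : (K A V C).X ((n + 1 : ℕ) : ℤ)) := by
      rintro a _ rfl h; exact h
    obtain ⟨y', hy'⟩ := key _ (n : ℤ) (by simp) ⟨y, hy⟩
    exact ⟨y', (K_d_nat A V C n y').symm.trans hy'⟩
  · rintro ⟨y, rfl⟩
    exact dL_dL A V C n y

lemma tupOpen_rect (W : X.Opens) (n : ℕ) (a : Fin (n + 1) → ι) :
    tupOpen (X := sp Z) (fun i => p ⁻¹ᵁ W ⊓ q ⁻¹ᵁ V i) a = p ⁻¹ᵁ W ⊓ q ⁻¹ᵁ tupOpen (X := sp Y) V a := by
  refine TopologicalSpace.Opens.ext ?_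
  show (↑(⨅ k, p ⁻¹ᵁ W ⊓ q ⁻¹ᵁ V (a k)) : Set Z) = (p ⁻¹ᵁ W : Set Z) ∩ q.base ⁻¹' (↑(⨅ k, V (a k)) : Set Y)
  rw [Opens.coe_iInf, Opens.coe_iInf, Set.preimage_iInter, Set.inter_iInter]
  rfl

include hZ hcov hV in
/-- Acyclic modules give modules acyclic on strips. -/
theorem subsingleton_hc_strip (hF : Coh.IsQCoh F) {W : X.Opens} (hW : IsAffineOpen W) [Module.Flat A Γ(F, W)]
    {C : Y.Modules} (hC : Coh.IsQCoh C) (m : ℕ) (h0 : Subsingleton (Coh.HH Y C (m + 1))) :
    Subsingleton (Hc ((abF Z).obj (Bx p q F C)) (m + 1) (p ⁻¹ᵁ W)) := by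
  classical
  let R : ι → Z.Opens := fun i => p ⁻¹ᵁ W ⊓ q ⁻¹ᵁ V i
  have hRa : ∀ (n : ℕ) (a : Fin (n + 1) → ι), IsAffineOpen (tupOpen (X := sp Z) R a) := fun n a =>
    isAffineOpen_rect hZ hW (hV n a) (tupOpen_rect W n a)
  haveI hq : Coh.IsQCoh (Bx p q F C) := isQCoh_Bx hF hC
  let b : ∀ (n : ℕ) (a : Fin (n + 1) → ι),
      Γ(F, W) ⊗[A] Γ(C, tupOpen (X := sp Y) V a) →ₗ[A] Γ(Bx p q F C, tupOpen (X := sp Z) R a) := fun n a =>
    bx hZ F C ((tupOpen_rect W n a).le.trans inf_le_left) ((tupOpen_rect W n a).le.trans inf_le_right)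
  have hb : ∀ (n : ℕ) (a : Fin (n + 1) → ι), Function.Bijective (b n a) := fun n a =>
    bijective_bx_affine hZ hF hC hW (hV n a) _ _ (tupOpen_rect W n a)
  haveI : ∀ n : ℕ, Fintype (Fin (n + 1) → ι) := fun n => Fintype.ofFinite _
  let Φ := fun n : ℕ =>
    TensorProduct.piRight A A Γ(F, W) fun a : Fin (n + 1) → ι => Γ(C, tupOpen (X := sp Y) V a)
  let E : ∀ n : ℕ, Γ(F, W) ⊗[A] (∀ a : Fin (n + 1) → ι, Γ(C, tupOpen (X := sp Y) V a)) →+
      ∀ a : Fin (n + 1) → ι, Γ(Bx p q F C, tupOpen (X := sp Z) R a) := fun n =>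
    AddMonoidHom.mk' (fun z a => b n a (Φ n z a)) fun z w => funext fun a => by
      rw [map_add, Pi.add_apply, map_add, Pi.add_apply]
  have hrid : resL A F (le_refl W) = LinearMap.id :=
    LinearMap.ext fun s => ConcreteCategory.congr_hom (F.presheaf.map_id (op W)) s
  have hE : ∀ n, Function.Bijective (E n) := fun n => by
    refine ⟨fun z w h => (Φ n).injective (funext fun a => (hb n a).1 (congrFun h a)), fun t => ?_⟩
    choose y hy using fun a => (hb n a).2 (t a)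
    exact ⟨(Φ n).symm y, funext fun a => (congrArg (b n a) (congrFun ((Φ n).apply_symm_apply y) a)).trans (hy a)⟩
  have hd : ∀ (n : ℕ) (z : Γ(F, W) ⊗[A] (∀ a : Fin (n + 1) → ι, Γ(C, tupOpen (X := sp Y) V a)))
      (a : Fin (n + 2) → ι), E (n + 1) ((dL A V C n).lTensor _ z) a = ∑ i : Fin (n + 2), (-1 : ℤ) ^ (i : ℕ) •
        resL A (Bx p q F C) (tupOpen_le (X := sp Z) R a i) (E n z (a ∘ i.succAbove)) := fun n z a => by
    induction z using TensorProduct.induction_on with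
    | zero => simp only [map_zero, Pi.zero_apply, smul_zero, Finset.sum_const_zero]
    | add z w hz hw =>
      simp only [map_add, Pi.add_apply, hz, hw, smul_add, Finset.sum_add_distrib]
    | tmul s x =>
      simp only [E, Φ, AddMonoidHom.mk'_apply, LinearMap.lTensor_tmul, TensorProduct.piRight_apply,
        TensorProduct.piRightHom_tmul]
      rw [dL_apply, TensorProduct.tmul_sum, map_sum]
      refine Finset.sum_congr rfl fun i _ => ?_
      rw [TensorProduct.tmul_smul, map_zsmul]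
      refine congrArg _ ?_
      have h := bx_res hZ F C ((tupOpen_rect W n (a ∘ i.succAbove)).le.trans inf_le_left)
        ((tupOpen_rect W n (a ∘ i.succAbove)).le.trans inf_le_right)
        ((tupOpen_rect W (n + 1) a).le.trans inf_le_left) ((tupOpen_rect W (n + 1) a).le.trans inf_le_right)
        le_rfl (tupOpen_le (X := sp Y) V a i) (tupOpen_le (X := sp Z) R a i) (s ⊗ₜ x (a ∘ i.succAbove))
      rw [TensorProduct.map_tmul, hrid, LinearMap.id_apply] at h
      exact h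
  have hz : IsZero (CohTop.cechH (X := sp Z) ((abF Z).obj (Bx p q F C)).obj R (m + 1)) := by
    refine isZero_cechH_of_exact (X := sp Z) R _ fun f hf => ?_
    obtain ⟨z, hzf⟩ := (hE (m + 1)).2 f
    have h1 : (dL A V C (m + 1)).lTensor Γ(F, W) z = 0 := by
      refine (hE (m + 2)).1 (funext fun a => ?_)
      rw [map_zero, Pi.zero_apply, hd, hzf]
      exact hf a
    obtain ⟨y, rfl⟩ := ((Module.Flat.lTensor_exact Γ(F, W) (exact_dL_of_acyclic hcov hV hC m h0)) z).1 h1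
    exact ⟨E m y, fun a => (hd m y a).symm.trans (congrFun hzf a)⟩
  have hcovR : p ⁻¹ᵁ W ≤ iSup R := fun z hz => by
    obtain ⟨i, hi⟩ := Opens.mem_iSup.1 (hcov (show q z ∈ (⊤ : Y.Opens) from trivial))
    exact Opens.mem_iSup.2 ⟨i, hz, hi⟩
  obtain ⟨e⟩ := nonempty_cechH_HU (X := sp Z) R ((abF Z).obj (Bx p q F C)) hcovR
    (fun n a k => (subsingleton_HU_iff _ _ _).2 (subsingleton_hc_isAffineOpen (Bx p q F C) (hRa n a) k))
    (fun _ => inf_le_left) (m + 1)
  have := AddCommGrpCat.subsingleton_of_isZero hz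
  exact (subsingleton_HU_iff _ _ _).1 e.symm.toEquiv.subsingleton

end Groth.Agent.Kunneth1
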