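import Groth.Agent.Lib.CBC10.TensorSec
import Groth.Agent.Lib.FlatH4.PullChart
import Groth.Agent.Lib.TensorMod.Invertible
import Mathlib.LinearAlgebra.TensorProduct.Pi
import Mathlib.RingTheory.Flat.Basic

/-!
# Sections of `p^* F ⊗ q^* G` over rectangles in a product over an affine base

`Γ(W, F) ⊗_A Γ(W', G) = Γ(p⁻¹ W ∩ q⁻¹ W', p^* F ⊗ q^* G)` for affine `W`, `W'`; with `Γ(W, F)` flat the same holds
for `W' = ⊤` when the second factor is quasi-compact with affine intersections of affines.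
-/

set_option autoImplicit false
set_option linter.style.haveILetI false
set_option linter.unusedSectionVars false
set_option maxHeartbeats 1000000

universe u

open CategoryTheory CategoryTheory.Limits AlgebraicGeometry TopologicalSpace Opposite TensorProduct

noncomputable section

namespace Groth.Agent.Kunneth1

open Groth.Agent.CBC10

section Algebra

variable {A R₁ R₂ S M N M' N' P : Type u} [CommRing A] [CommRing R₁] [CommRing R₂] [CommRing S]
  [Algebra A R₁] [Algebra A R₂] [Algebra A S] [Algebra R₁ S] [Algebra R₂ S]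
  [IsScalarTower A R₁ S] [IsScalarTower A R₂ S]
  [AddCommGroup M] [AddCommGroup N] [AddCommGroup M'] [AddCommGroup N'] [AddCommGroup P]
  [Module A M] [Module R₁ M] [IsScalarTower A R₁ M] [Module A N] [Module R₂ N] [IsScalarTower A R₂ N]
  [Module S M'] [Module R₁ M'] [IsScalarTower R₁ S M'] [Module S N'] [Module R₂ N'] [IsScalarTower R₂ S N']
  [Module S P]

/-- The tensor product of two base changes to a pushout. -/
theorem bijective_box (hpo : Algebra.IsPushout A R₁ R₂ S) {ηM : M →ₗ[R₁] M'} (hM : IsBaseChange S ηM)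
    {ηN : N →ₗ[R₂] N'} (hN : IsBaseChange S ηN) {Φ : M' ⊗[S] N' →ₗ[S] P} (hΦ : Function.Bijective Φ)
    (L : M ⊗[A] N →+ P) (hL : ∀ m n, L (m ⊗ₜ n) = Φ (ηM m ⊗ₜ ηN n)) : Function.Bijective L := by
  haveI := hpo
  haveI : Algebra.IsPushout A R₂ R₁ S := Algebra.IsPushout.symm hpo
  letI : Module R₂ M' := Module.compHom M' (algebraMap R₂ S)
  haveI : IsScalarTower R₂ S M' := IsScalarTower.of_algebraMap_smul fun _ _ => rfl
  let eM : R₂ ⊗[A] M ≃ₗ[R₂] M' :=
    (Algebra.IsPushout.cancelBaseChange A R₂ R₁ S M).symm ≪≫ₗ hM.equiv.restrictScalars R₂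
  have heM : ∀ m, eM (1 ⊗ₜ m) = ηM m := fun m => by
    show hM.equiv ((Algebra.IsPushout.cancelBaseChange A R₂ R₁ S M).symm (1 ⊗ₜ m)) = _
    rw [Algebra.IsPushout.cancelBaseChange_symm_tmul, map_one]
    exact (hM.equiv_tmul 1 m).trans (one_smul S _)
  let e1 := (TensorProduct.AlgebraTensorModule.cancelBaseChange A R₂ R₂ N M).symm
  let e2 := (TensorProduct.congr (LinearEquiv.refl R₂ N) eM).trans (TensorProduct.comm R₂ N M')
  let e3 := (TensorProduct.AlgebraTensorModule.cancelBaseChange R₂ S S M' N).symm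
  let e4 := TensorProduct.congr (LinearEquiv.refl S M') hN.equiv
  let f : M ⊗[A] N → P := fun z => Φ (e4 (e3 (e2 (e1 (TensorProduct.comm A M N z)))))
  have hf : Function.Bijective f :=
    hΦ.comp (e4.bijective.comp (e3.bijective.comp (e2.bijective.comp (e1.bijective.comp
      (TensorProduct.comm A M N).bijective))))
  suffices h : ∀ z, L z = f z by rw [show ⇑L = f from funext h]; exact hf
  intro z
  induction z using TensorProduct.induction_on with
  | zero => simp only [f, map_zero]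
  | add a b ha hb => simp only [f, map_add] at ha hb ⊢; rw [ha, hb]
  | tmul m n =>
    rw [hL]
    refine congrArg Φ ?_
    simp only [e1, e2, e3, e4, TensorProduct.comm_tmul, TensorProduct.AlgebraTensorModule.cancelBaseChange_symm_tmul,
      LinearEquiv.trans_apply, TensorProduct.congr_tmul, LinearEquiv.refl_apply, heM, hN.equiv_tmul, one_smul]

end Algebra

variable {A : Type u} [CommRing A] {X Y Z : Scheme.{u}} [X.Over (Spec (CommRingCat.of A))]
  [Y.Over (Spec (CommRingCat.of A))] [Z.Over (Spec (CommRingCat.of A))]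

attribute [local instance] secA

variable (A) in
/-- A product over the base. -/
structure IsProd (p : Z ⟶ X) (q : Z ⟶ Y) : Prop where
  isPullback : IsPullback p q (X ↘ Spec (CommRingCat.of A)) (Y ↘ Spec (CommRingCat.of A))
  over_eq : (Z ↘ Spec (CommRingCat.of A)) = p ≫ (X ↘ Spec (CommRingCat.of A))

variable {p : Z ⟶ X} {q : Z ⟶ Y}

lemma appLE_ρ_of_comp {g : Z ⟶ X} (w : g ≫ (X ↘ Spec (CommRingCat.of A)) = Z ↘ Spec (CommRingCat.of A))
    {W : X.Opens} {R : Z.Opens} (e : R ≤ g ⁻¹ᵁ W) (a : A) : g.appLE W R e (ρ A W a) = ρ A R a := by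
  have hc : (X ↘ Spec (CommRingCat.of A)).appLE ⊤ W le_top ≫ g.appLE W R e =
      (Z ↘ Spec (CommRingCat.of A)).appLE ⊤ R le_top := by
    rw [Scheme.Hom.appLE_comp_appLE]
    simp only [w]
  exact ConcreteCategory.congr_hom hc ((Scheme.ΓSpecIso (CommRingCat.of A)).inv a)

lemma IsProd.snd_w (hZ : IsProd A p q) :
    q ≫ (Y ↘ Spec (CommRingCat.of A)) = Z ↘ Spec (CommRingCat.of A) :=
  hZ.isPullback.w.symm.trans hZ.over_eq.symm

variable (p q) in
/-- `p^* F ⊗ q^* G`. -/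
abbrev Bx (F : X.Modules) (G : Y.Modules) : Z.Modules :=
  CohB1.tensorMod ((Scheme.Modules.pullback p).obj F) ((Scheme.Modules.pullback q).obj G)

variable (p) in
/-- `G ↦ p^* F ⊗ q^* G` on morphisms. -/
abbrev bxHom (q : Z ⟶ Y) (F : X.Modules) {G G' : Y.Modules} (φ : G ⟶ G') : Bx p q F G ⟶ Bx p q F G' :=
  M2.tensorMap (𝟙 _) ((Scheme.Modules.pullback q).map φ)

lemma isQCoh_Bx {F : X.Modules} {G : Y.Modules} (hF : Coh.IsQCoh F) (hG : Coh.IsQCoh G) :
    Coh.IsQCoh (Bx p q F G) :=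
  M2.isQCoh_tensor (M1.isQCoh_pullback p hF) (M1.isQCoh_pullback q hG)

variable (hZ : IsProd A p q) (F : X.Modules) (G : Y.Modules)

/-- The product of two sections. -/
def bx {W : X.Opens} {W' : Y.Opens} {R : Z.Opens} (e₁ : R ≤ p ⁻¹ᵁ W) (e₂ : R ≤ q ⁻¹ᵁ W') :
    Γ(F, W) ⊗[A] Γ(G, W') →ₗ[A] Γ(Bx p q F G, R) :=
  TensorProduct.lift (LinearMap.mk₂ A
    (fun s t => M2.tsec _ _ (ModLimH13.res' p F e₁ s) (ModLimH13.res' q G e₂ t))
    (fun s s' t => by rw [ModLimH13.res'_add]; exact M2.tsec_add_left _ _ _)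
    (fun a s t => by
      rw [secA_smul, ModLimH13.res'_smul, appLE_ρ_of_comp hZ.over_eq.symm e₁]
      exact M2.tsec_smul_left (ρ A R a) _ _)
    (fun s t t' => by rw [ModLimH13.res'_add]; exact M2.tsec_add_right _ _ _)
    (fun a s t => by
      rw [secA_smul A G, ModLimH13.res'_smul, appLE_ρ_of_comp hZ.snd_w e₂]
      exact M2.tsec_smul_right (ρ A R a) _ _))

lemma bx_tmul {W : X.Opens} {W' : Y.Opens} {R : Z.Opens} (e₁ : R ≤ p ⁻¹ᵁ W) (e₂ : R ≤ q ⁻¹ᵁ W')
    (s : Γ(F, W)) (t : Γ(G, W')) :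
    bx hZ F G e₁ e₂ (s ⊗ₜ t) = M2.tsec _ _ (ModLimH13.res' p F e₁ s) (ModLimH13.res' q G e₂ t) :=
  TensorProduct.lift.tmul _ _

lemma bx_res {W V : X.Opens} {W' V' : Y.Opens} {R R' : Z.Opens} (e₁ : R ≤ p ⁻¹ᵁ W) (e₂ : R ≤ q ⁻¹ᵁ W')
    (d₁ : R' ≤ p ⁻¹ᵁ V) (d₂ : R' ≤ q ⁻¹ᵁ V') (hV : V ≤ W) (hV' : V' ≤ W') (hR : R' ≤ R)
    (z : Γ(F, W) ⊗[A] Γ(G, W')) :
    bx hZ F G d₁ d₂ (TensorProduct.map (resL A F hV) (resL A G hV') z) =
      resL A (Bx p q F G) hR (bx hZ F G e₁ e₂ z) := by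
  induction z using TensorProduct.induction_on with
  | zero => simp only [map_zero]
  | add a b ha hb => simp only [map_add, ha, hb]
  | tmul s t =>
    rw [TensorProduct.map_tmul, bx_tmul, bx_tmul]
    refine Eq.trans ?_ (M2.res_tsec hR _ _).symm
    rw [show resL A F hV s = M1.mres F hV s from rfl, show resL A G hV' t = M1.mres G hV' t from rfl,
      ModLimH13.res'_mres, ModLimH13.res'_mres]
    exact congrArg₂ (M2.tsec _ _) (ModLimH13.mres_res' p F e₁ hR s).symm (ModLimH13.mres_res' q G e₂ hR t).symm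

lemma bx_map {G' : Y.Modules} (φ : G ⟶ G') {W : X.Opens} {W' : Y.Opens} {R : Z.Opens} (e₁ : R ≤ p ⁻¹ᵁ W)
    (e₂ : R ≤ q ⁻¹ᵁ W') (z : Γ(F, W) ⊗[A] Γ(G, W')) :
    appL A (bxHom p q F φ) R (bx hZ F G e₁ e₂ z) = bx hZ F G' e₁ e₂ ((appL A φ W').lTensor Γ(F, W) z) := by
  induction z using TensorProduct.induction_on with
  | zero => simp only [map_zero]
  | add a b ha hb => simp only [map_add, ha, hb]
  | tmul s t =>
    rw [LinearMap.lTensor_tmul, bx_tmul, bx_tmul]
    refine (M2.tensorMap_tsec _ _ _ _).trans ?_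
    exact congrArg (M2.tsec _ _ _) (ModLimH13.map_res' q G e₂ φ t)

variable {F G}

include hZ in
lemma isAffineOpen_rect {W : X.Opens} (hW : IsAffineOpen W) {W' : Y.Opens} (hW' : IsAffineOpen W')
    {R : Z.Opens} (hR : R = p ⁻¹ᵁ W ⊓ q ⁻¹ᵁ W') : IsAffineOpen R :=
  FlatH4.isAffineOpen_of_isPullback hZ.isPullback (US := ⊤) (fun _ _ => trivial) (fun _ _ => trivial) hR
    (isAffineOpen_top _) hW' hW

/-- Sections over an affine rectangle. -/
theorem bijective_bx_affine (hF : Coh.IsQCoh F) (hG : Coh.IsQCoh G) {W : X.Opens} (hW : IsAffineOpen W)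
    {W' : Y.Opens} (hW' : IsAffineOpen W') {R : Z.Opens} (e₁ : R ≤ p ⁻¹ᵁ W) (e₂ : R ≤ q ⁻¹ᵁ W')
    (hR : R = p ⁻¹ᵁ W ⊓ q ⁻¹ᵁ W') : Function.Bijective (bx hZ F G e₁ e₂) := by
  have hRa := isAffineOpen_rect hZ hW hW' hR
  haveI := hF
  haveI := hG
  have hpo := FlatH4.isPushout_sections hZ.isPullback (US := ⊤) (UT := W') (UX := W) (fun _ _ => trivial)
    (fun _ _ => trivial) (UY := R) hR (isAffineOpen_top _) hW' hW
  have hp : IsPushout (CommRingCat.ofHom (ρ A W)) (CommRingCat.ofHom (ρ A W')) (p.appLE W R e₁)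
      (q.appLE W' R e₂) :=
    hpo.of_iso (Scheme.ΓSpecIso (CommRingCat.of A)) (Iso.refl _) (Iso.refl _) (Iso.refl _)
      (by rw [← Iso.inv_comp_eq, Iso.refl_hom, Category.comp_id]; rfl)
      (by rw [← Iso.inv_comp_eq, Iso.refl_hom, Category.comp_id]; rfl)
      (by simp) (by simp)
  letI : Algebra A Γ(X, W) := (ρ A W).toAlgebra
  letI : Algebra A Γ(Y, W') := (ρ A W').toAlgebra
  letI : Algebra A Γ(Z, R) := (ρ A R).toAlgebra
  letI : Algebra Γ(X, W) Γ(Z, R) := (p.appLE W R e₁).hom.toAlgebra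
  letI : Algebra Γ(Y, W') Γ(Z, R) := (q.appLE W' R e₂).hom.toAlgebra
  haveI : IsScalarTower A Γ(X, W) Γ(Z, R) :=
    IsScalarTower.of_algebraMap_eq fun a => (appLE_ρ_of_comp hZ.over_eq.symm e₁ a).symm
  haveI : IsScalarTower A Γ(Y, W') Γ(Z, R) :=
    IsScalarTower.of_algebraMap_eq fun a => (appLE_ρ_of_comp hZ.snd_w e₂ a).symm
  haveI : IsScalarTower A Γ(X, W) Γ(F, W) := IsScalarTower.of_algebraMap_smul fun _ _ => rfl
  haveI : IsScalarTower A Γ(Y, W') Γ(G, W') := IsScalarTower.of_algebraMap_smul fun _ _ => rfl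
  have hpo' : Algebra.IsPushout A Γ(X, W) Γ(Y, W') Γ(Z, R) := CommRingCat.isPushout_iff_isPushout.1 hp
  let F' := (Scheme.Modules.pullback p).obj F
  let G' := (Scheme.Modules.pullback q).obj G
  letI : Module Γ(X, W) Γ(F', R) := Module.compHom _ (p.appLE W R e₁).hom
  letI : Module Γ(Y, W') Γ(G', R) := Module.compHom _ (q.appLE W' R e₂).hom
  haveI : IsScalarTower Γ(X, W) Γ(Z, R) Γ(F', R) := IsScalarTower.of_algebraMap_smul fun _ _ => rfl
  haveI : IsScalarTower Γ(Y, W') Γ(Z, R) Γ(G', R) := IsScalarTower.of_algebraMap_smul fun _ _ => rfl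
  let ηF : Γ(F, W) →ₗ[Γ(X, W)] Γ(F', R) :=
    { toFun := ModLimH13.res' p F e₁, map_add' := ModLimH13.res'_add p F e₁
      map_smul' := ModLimH13.res'_smul p F e₁ }
  let ηG : Γ(G, W') →ₗ[Γ(Y, W')] Γ(G', R) :=
    { toFun := ModLimH13.res' q G e₂, map_add' := ModLimH13.res'_add q G e₂
      map_smul' := ModLimH13.res'_smul q G e₂ }
  obtain ⟨ΦF, hΦF⟩ := ModLimH13.exists_pullEquiv p F e₁ hW hRa
  obtain ⟨ΦG, hΦG⟩ := ModLimH13.exists_pullEquiv q G e₂ hW' hRa
  have hbF : IsBaseChange Γ(Z, R) ηF :=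
    IsBaseChange.of_equiv ΦF fun s => (hΦF 1 s).trans (one_smul _ _)
  have hbG : IsBaseChange Γ(Z, R) ηG :=
    IsBaseChange.of_equiv ΦG fun s => (hΦG 1 s).trans (one_smul _ _)
  exact bijective_box hpo' hbF hbG (bijective_secTensor F' G' (M1.isQCoh_pullback p hF)
    (M1.isQCoh_pullback q hG) hRa) (bx hZ F G e₁ e₂).toAddMonoidHom fun s t =>
      (bx_tmul hZ F G e₁ e₂ s t).trans (secTensor_tmul _ _ _ _).symm

/-- Sections over a strip. -/
theorem bijective_bx_top (hF : Coh.IsQCoh F) (hG : Coh.IsQCoh G) {W : X.Opens} (hW : IsAffineOpen W)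
    [Module.Flat A Γ(F, W)] {ι : Type u} [Finite ι] {V : ι → Y.Opens} (hV : ∀ i, IsAffineOpen (V i))
    (hV2 : ∀ i j, IsAffineOpen (V i ⊓ V j)) (hcov : (⊤ : Y.Opens) ≤ iSup V) :
    Function.Bijective (bx hZ F G (le_refl (p ⁻¹ᵁ W)) (W' := ⊤) (fun _ _ => trivial)) := by
  classical
  haveI := Fintype.ofFinite ι
  let R : ι → Z.Opens := fun i => p ⁻¹ᵁ W ⊓ q ⁻¹ᵁ V i
  let R2 : ι → ι → Z.Opens := fun i j => p ⁻¹ᵁ W ⊓ q ⁻¹ᵁ (V i ⊓ V j)
  let res : Γ(G, (⊤ : Y.Opens)) →ₗ[A] ∀ i, Γ(G, V i) := LinearMap.pi fun i => resL A G le_top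
  let dd : (∀ i, Γ(G, V i)) →ₗ[A] ∀ ij : ι × ι, Γ(G, V ij.1 ⊓ V ij.2) :=
    LinearMap.pi fun ij => (resL A G inf_le_left).comp (LinearMap.proj ij.1) -
      (resL A G inf_le_right).comp (LinearMap.proj ij.2)
  have hres : Function.Injective res := fun s t h =>
    TopCat.Sheaf.eq_of_locally_eq' (F := ⟨G.presheaf, G.isSheaf⟩) V ⊤ (fun i => homOfLE le_top) hcov s t
      fun i => congrFun h i
  have hex : Function.Exact res dd := fun s => by
    constructor
    · intro h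
      have hcomp : ∀ i j, G.presheaf.map (homOfLE (inf_le_left : V i ⊓ V j ≤ V i)).op (s i) =
          G.presheaf.map (homOfLE (inf_le_right : V i ⊓ V j ≤ V j)).op (s j) := fun i j =>
        sub_eq_zero.1 (congrFun h (i, j))
      obtain ⟨t, ht, -⟩ := TopCat.Sheaf.existsUnique_gluing' (F := ⟨G.presheaf, G.isSheaf⟩) V ⊤
        (fun i => homOfLE le_top) hcov s hcomp
      exact ⟨t, funext ht⟩
    · rintro ⟨t, rfl⟩
      funext ij
      exact sub_eq_zero.2 ((M1.mres_mres G le_top inf_le_left t).trans (M1.mres_mres G le_top inf_le_right t).symm)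
  let Φ := TensorProduct.piRight A A Γ(F, W) fun i => Γ(G, V i)
  let Φ2 := TensorProduct.piRight A A Γ(F, W) fun ij : ι × ι => Γ(G, V ij.1 ⊓ V ij.2)
  have eΦ : ∀ (z : Γ(F, W) ⊗[A] ∀ i, Γ(G, V i)) (i : ι), Φ z i = (LinearMap.proj i).lTensor Γ(F, W) z := by
    intro z i
    induction z using TensorProduct.induction_on with
    | zero => simp only [map_zero, Pi.zero_apply]
    | add a b ha hb => simp only [map_add, Pi.add_apply, ha, hb]
    | tmul s t => simp [Φ]
  have eΦ2 : ∀ (z : Γ(F, W) ⊗[A] ∀ ij : ι × ι, Γ(G, V ij.1 ⊓ V ij.2)) (ij : ι × ι),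
      Φ2 z ij = (LinearMap.proj ij).lTensor Γ(F, W) z := by
    intro z ij
    induction z using TensorProduct.induction_on with
    | zero => simp only [map_zero, Pi.zero_apply]
    | add a b ha hb => simp only [map_add, Pi.add_apply, ha, hb]
    | tmul s t => simp [Φ2]
  let B := bx hZ F G (le_refl (p ⁻¹ᵁ W)) (W' := ⊤) (fun _ _ => trivial)
  let Bi := fun i => bx hZ F G (R := R i) (W := W) (W' := V i) inf_le_left inf_le_right
  have hBi : ∀ i, Function.Bijective (Bi i) := fun i =>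
    bijective_bx_affine hZ hF hG hW (hV i) _ _ rfl
  have hrid : resL A F (le_refl W) = LinearMap.id :=
    LinearMap.ext fun s => ConcreteCategory.congr_hom (F.presheaf.map_id (op W)) s
  have sq : ∀ z i, Bi i ((resL A G le_top).lTensor Γ(F, W) z) = resL A _ inf_le_left (B z) := fun z i => by
    have h := bx_res hZ F G (le_refl (p ⁻¹ᵁ W)) (W' := ⊤) (fun _ _ => trivial) (inf_le_left : R i ≤ _)
      inf_le_right le_rfl le_top inf_le_left z
    rw [hrid] at h
    exact h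
  have hcovR : p ⁻¹ᵁ W ≤ iSup R := fun z hz => by
    obtain ⟨i, hi⟩ := Opens.mem_iSup.1 (hcov (show q z ∈ (⊤ : Y.Opens) from trivial))
    exact Opens.mem_iSup.2 ⟨i, hz, hi⟩
  constructor
  · refine (injective_iff_map_eq_zero _).2 fun z hz => ?_
    refine Module.Flat.lTensor_preserves_injective_linearMap res hres ?_
    rw [map_zero]
    refine Φ.injective (funext fun i => ?_)
    rw [map_zero, Pi.zero_apply, eΦ, ← LinearMap.comp_apply, ← LinearMap.lTensor_comp]
    refine (hBi i).1 ?_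
    show Bi i ((resL A G le_top).lTensor Γ(F, W) z) = Bi i 0
    rw [sq, show B z = 0 from hz, map_zero, map_zero]
  · intro t
    have hex' := Module.Flat.lTensor_exact Γ(F, W) hex
    choose y hy using fun i => (hBi i).2 (resL A (Bx p q F G) (inf_le_left : R i ≤ _) t)
    have hz : dd.lTensor Γ(F, W) (Φ.symm y) = 0 := by
      refine Φ2.injective (funext fun ij => ?_)
      rw [map_zero, Pi.zero_apply, eΦ2, ← LinearMap.comp_apply, ← LinearMap.lTensor_comp,
        LinearMap.proj_pi, LinearMap.lTensor_sub, LinearMap.sub_apply, LinearMap.lTensor_comp,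
        LinearMap.lTensor_comp, LinearMap.comp_apply, LinearMap.comp_apply, ← eΦ, ← eΦ,
        LinearEquiv.apply_symm_apply, sub_eq_zero]
      refine (bijective_bx_affine hZ hF hG hW (hV2 ij.1 ij.2) (R := R2 ij.1 ij.2) inf_le_left inf_le_right rfl).1 ?_
      have e1 : R2 ij.1 ij.2 ≤ R ij.1 := inf_le_inf_left _ (q.preimage_mono inf_le_left)
      have e2 : R2 ij.1 ij.2 ≤ R ij.2 := inf_le_inf_left _ (q.preimage_mono inf_le_right)
      have h1 := bx_res hZ F G (inf_le_left : R ij.1 ≤ _) inf_le_right (inf_le_left : R2 ij.1 ij.2 ≤ _)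
        inf_le_right le_rfl inf_le_left e1 (y ij.1)
      have h2 := bx_res hZ F G (inf_le_left : R ij.2 ≤ _) inf_le_right (inf_le_left : R2 ij.1 ij.2 ≤ _)
        inf_le_right le_rfl inf_le_right e2 (y ij.2)
      rw [hrid] at h1 h2
      refine h1.trans (Eq.trans ?_ h2.symm)
      rw [hy, hy]
      exact (M1.mres_mres (Bx p q F G) (inf_le_left : R ij.1 ≤ p ⁻¹ᵁ W) e1 t).trans
        (M1.mres_mres (Bx p q F G) (inf_le_left : R ij.2 ≤ p ⁻¹ᵁ W) e2 t).symm
    obtain ⟨z, hzz⟩ := (hex' _).1 hz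
    refine ⟨z, TopCat.Sheaf.eq_of_locally_eq' (F := ⟨(Bx p q F G).presheaf, (Bx p q F G).isSheaf⟩) R (p ⁻¹ᵁ W)
      (fun i => homOfLE inf_le_left) hcovR _ _ fun i => ?_⟩
    refine (sq z i).symm.trans (Eq.trans ?_ (hy i))
    refine congrArg (Bi i) ?_
    rw [← congrFun (Φ.apply_symm_apply y) i, eΦ, ← hzz, ← LinearMap.comp_apply, ← LinearMap.lTensor_comp]
    rfl

end Groth.Agent.Kunneth1
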